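import Cfsg.Agent.Lib.TwoFusion.AbelianPSL.Setup
import Cfsg.Agent.Lib.Bender.Gen.Wiring
import Cfsg.Agent.Lib.GW.DGroup.Even
import Cfsg.Agent.Lib.Classical.Unitary.Two

/-!
Owner: helper15. S1245: in a simple group with abelian Sylow 2-subgroups a centraliser `⟨t⟩ × E`, `E` of type
`PSL(2,q)`, `q` odd, is maximal (given Bender's theorem on strongly embedded subgroups).
-/

set_option autoImplicit false
set_option linter.unusedSectionVars false
set_option linter.style.haveILetI false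

namespace CfsgLib.AbelianPSL

open Subgroup
open CfsgLib.Signalizer (involution_sq involution_inv orderOf_eq_two_of involution_ne_one orderOf_conj)
open CfsgLib.Bender (IsSyl exists_isSyl_ge map_conj_eq_of_mem_normalizer le_of_four_centralizers mem_map_conj
  conj_mem_map_conj card_map_conj odd_of_le)

universe u

variable {G : Type u} [Group G] [Finite G]

/-- An odd group on which an involution fixes nothing is inverted by it. -/
theorem inverted_of_fixed_eq_one {W : Subgroup G} {t : G} (ht : orderOf t = 2) (htW : t ∈ normalizer (W : Set G))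
    (hfix : ∀ x ∈ W, x * t = t * x → x = 1) {x : G} (hx : x ∈ W) : t * x * t⁻¹ = x⁻¹ := by
  have hc : ∀ y : W, t * (y : G) * t⁻¹ ∈ W := fun y => (mem_normalizer_iff.1 htW _).1 y.2
  let f : W → W := fun y => ⟨(y : G)⁻¹ * (t * y * t⁻¹), W.mul_mem (W.inv_mem y.2) (hc y)⟩
  have hinj : Function.Injective f := by
    intro a b hab
    have h1 : (a : G)⁻¹ * (t * a * t⁻¹) = (b : G)⁻¹ * (t * b * t⁻¹) := congrArg Subtype.val hab
    have h2 : ((b : G) * (a : G)⁻¹) * t = t * ((b : G) * (a : G)⁻¹) := by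
      calc ((b : G) * (a : G)⁻¹) * t = b * ((a : G)⁻¹ * (t * a * t⁻¹)) * (t * (a : G)⁻¹) * 1 := by group
        _ = t * ((b : G) * (a : G)⁻¹) := by rw [h1]; group
    have h3 := hfix _ (W.mul_mem b.2 (W.inv_mem a.2)) h2
    exact Subtype.ext (mul_inv_eq_one.1 h3).symm
  obtain ⟨y, hy⟩ := Finite.surjective_of_injective hinj ⟨x, hx⟩
  have hy' : (y : G)⁻¹ * (t * y * t⁻¹) = x := congrArg Subtype.val hy
  rw [← hy', mul_inv_rev, inv_inv, involution_inv ht]
  calc t * ((y : G)⁻¹ * (t * y * t)) * t = t * (y : G)⁻¹ * t * y * (t * t) := by group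
    _ = _ := by rw [involution_sq ht, mul_one, mul_inv_rev, mul_inv_rev, involution_inv ht]; group

namespace Conf

variable {t : G} {T : Sylow 2 G} {E E₀ : Subgroup G} (h : Conf t T E E₀)
include h

theorem V_involutions : ∃ a b : G, a ∈ h.V ∧ b ∈ h.V ∧ orderOf a = 2 ∧ orderOf b = 2 ∧ a ≠ b ∧ a * b = b * a := by
  classical
  have h4 : (h.V : Set G).ncard = 4 := by rw [← Nat.card_coe_set_eq]; exact h.card_V
  obtain ⟨a, ha, ha1⟩ := Set.exists_ne_of_one_lt_ncard (show 1 < (h.V : Set G).ncard by omega) 1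
  obtain ⟨b, hb, hb'⟩ := Set.exists_mem_notMem_of_ncard_lt_ncard (t := (h.V : Set G)) (s := ({1, a} : Set G))
    (by rw [h4, Set.ncard_pair (Ne.symm ha1)]; norm_num) (Set.toFinite _)
  simp only [Set.mem_insert_iff, Set.mem_singleton_iff, not_or] at hb'
  exact ⟨a, b, ha, hb, h.ord_T ha.1 ha1, h.ord_T hb.1 hb'.1, fun e => hb'.2 e.symm, h.V_comm a ha b hb⟩

theorem centralizer_ne_top [IsSimpleGroup G] (hna : ¬ IsMulCommutative G) : centralizer ({t} : Set G) ≠ ⊤ := by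
  intro e
  have ht : t ∈ center G := mem_center_iff.2 fun g => mem_centralizer_singleton_iff.1 (e ▸ mem_top g)
  rcases IsSimpleGroup.eq_bot_or_eq_top_of_normal (center G) inferInstance with h1 | h1
  · exact involution_ne_one h.ord (mem_bot.1 (h1 ▸ ht))
  · exact hna (center_eq_top_iff.1 h1)

theorem oddCore_bot [IsSimpleGroup G] : Cfsg.oddCore G = ⊥ := by
  refine (IsSimpleGroup.eq_bot_or_eq_top_of_normal (Cfsg.oddCore G) inferInstance).resolve_right fun h1 => ?_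
  have h2 := CfsgLib.ZStar.odd_card_oddCore G
  rw [h1, Subgroup.card_top] at h2
  exact Nat.not_even_iff_odd.2 h2 (even_iff_two_dvd.2 (h.ord ▸ orderOf_dvd_natCard t))

/-- In the whole group all involutions of `T` are conjugate to `t`. -/
theorem fusion_top [IsSimpleGroup G] (hna : ¬ IsMulCommutative G) :
    ∀ x ∈ T, x ≠ 1 → ∃ m, m ∈ normalizer ((T : Subgroup G) : Set G) ∧ m * t * m⁻¹ = x := by
  rcases h.fusion (M := ⊤) le_top with hf | hf
  · intro x hx hx1
    obtain ⟨m, -, hm, he⟩ := hf x hx hx1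
    exact ⟨m, hm, he⟩
  · exfalso
    have hiso : Cfsg.IsIsolatedInvolution t := ⟨h.ord, fun g hg => hf g (mem_top g) hg⟩
    have h1 := CfsgLib.Classical.SwapPair.sup_oddCore_eq_top_of_isolated hiso
    rw [h.oddCore_bot, sup_bot_eq] at h1
    exact h.centralizer_ne_top hna h1

/-- A subgroup of `C(t)` of odd order inverted by an involution of `T` other than `t` and normalised by the
common centraliser is trivial. -/
theorem eq_bot_of_inverted_C {s : G} (hs : s ∈ T) (hs1 : s ≠ 1) (hst : s ≠ t) {X : Subgroup G}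
    (hXC : X ≤ centralizer ({t} : Set G)) (hX : Odd (Nat.card X)) (hinv : ∀ x ∈ X, s * x * s⁻¹ = x⁻¹)
    (hn : centralizer ({t} : Set G) ⊓ centralizer ({s} : Set G) ≤ normalizer (X : Set G)) : X = ⊥ := by
  have hXE : X ≤ E := fun x hx => h.mem_E_of_odd (hXC hx) (hX.of_dvd_nat (X.orderOf_dvd_natCard hx))
  -- replace `s` by its component in `V`
  obtain ⟨v, hvV, hv1, hvX, hvC⟩ : ∃ v ∈ h.V, v ≠ 1 ∧ (∀ x ∈ X, v * x * v⁻¹ = x⁻¹) ∧
      ∀ c ∈ E, c * v = v * c → c * s = s * c := by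
    rcases h.T_form hs with hsV | ⟨v, hv, rfl⟩
    · exact ⟨s, hsV, hs1, hinv, fun c _ hc => hc⟩
    · refine ⟨v, hv, fun e => hst (by rw [e, mul_one]), fun x hx => ?_, fun c hc hcv => ?_⟩
      · have h1 := hinv x hx
        have h2 : t * x⁻¹ * t⁻¹ = x⁻¹ := by rw [← h.commute_E (E.inv_mem (hXE hx)), mul_inv_cancel_right]
        have h3 : t * (v * x * v⁻¹) * t⁻¹ = t * x⁻¹ * t⁻¹ := by rw [h2, ← h1]; group
        exact mul_left_cancel (mul_right_cancel h3)
      · rw [← mul_assoc, h.commute_E hc, mul_assoc, hcv, ← mul_assoc]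
  have hord : orderOf (⟨v, hvV.2⟩ : E₀) = 2 := by rw [Subgroup.orderOf_mk]; exact h.ord_T hvV.1 hv1
  have hcmem : ∀ c ∈ E₀, c * v = v * c → c ∈ normalizer (X : Set G) := fun c hc hcv =>
    hn ⟨h.le_C (h.le hc), mem_centralizer_singleton_iff.2 (hvC c (h.le hc) hcv)⟩
  have h0 : X.subgroupOf E₀ = ⊥ := by
    refine eq_bot_of_inverted h.data hord ?_ (fun x hx => Subtype.ext (hvX x hx)) ?_
    · exact hX.of_dvd_nat (Subgroup.card_comap_dvd_of_injective _ E₀.subtype E₀.subtype_injective)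
    · intro c hc
      have hcv : (c : G) * v = v * c := congrArg Subtype.val (mem_centralizer_singleton_iff.1 hc)
      have hcn := hcmem c c.2 hcv
      exact mem_normalizer_iff.2 fun x => mem_normalizer_iff.1 hcn (x : G)
  refine (eq_bot_iff_forall _).2 fun x hx => ?_
  have hvn := hcmem v hvV.2 rfl
  have hmem : x * v * x⁻¹ * v⁻¹ ∈ E₀ :=
    E₀.mul_mem ((mem_normalizer_iff.1 (h.nrm (hXE hx)) v).1 hvV.2) (E₀.inv_mem hvV.2)
  have hmemX : x * v * x⁻¹ * v⁻¹ ∈ X := by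
    rw [show x * v * x⁻¹ * v⁻¹ = x * (v * x⁻¹ * v⁻¹) by group]
    exact X.mul_mem hx ((mem_normalizer_iff.1 hvn _).1 (X.inv_mem hx))
  have h2 : (⟨_, hmem⟩ : E₀) ∈ X.subgroupOf E₀ := mem_subgroupOf.2 hmemX
  rw [h0, mem_bot] at h2
  have h3 : x * v * x⁻¹ * v⁻¹ = 1 := congrArg Subtype.val h2
  rw [mul_inv_eq_one, mul_inv_eq_iff_eq_mul] at h3
  have h4 := hvX x hx
  rw [← h3, mul_inv_cancel_right] at h4
  exact CfsgLib.ZStar.eq_one_of_odd_of_sq (hX.of_dvd_nat (X.orderOf_dvd_natCard hx))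
    (by rw [pow_two]; nth_rw 2 [h4]; exact mul_inv_cancel x)

/-- The isolated case. -/
theorem eq_of_isolated [IsSimpleGroup G] (hna : ¬ IsMulCommutative G) {M : Subgroup G}
    (hM : centralizer ({t} : Set G) ≤ M) (hf : ∀ m ∈ M, Commute t (m * t * m⁻¹) → m * t * m⁻¹ = t) :
    M ≤ centralizer ({t} : Set G) := by
  have htM : t ∈ M := hM h.t_mem_C
  have hiso : Cfsg.IsIsolatedInvolution (⟨t, htM⟩ : M) := by
    refine ⟨by rw [Subgroup.orderOf_mk]; exact h.ord, fun g hg => Subtype.ext (hf g g.2 ?_)⟩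
    exact congrArg Subtype.val hg.eq
  have hsup := CfsgLib.Classical.SwapPair.sup_oddCore_eq_top_of_isolated hiso
  set W := (Cfsg.oddCore M).map M.subtype with hW
  have hWodd : Odd (Nat.card W) :=
    (CfsgLib.ZStar.odd_card_oddCore M).of_dvd_nat (Subgroup.card_map_dvd _ _)
  have hWn : M ≤ normalizer (W : Set G) := by
    intro g hg
    refine mem_normalizer_iff.2 fun x => ⟨?_, fun hx => ?_⟩
    · rintro ⟨v, hv, rfl⟩
      exact ⟨⟨g, hg⟩ * v * ⟨g, hg⟩⁻¹, (inferInstance : (Cfsg.oddCore M).Normal).conj_mem v hv _, rfl⟩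
    · obtain ⟨v, hv, he⟩ := hx
      refine ⟨⟨g, hg⟩⁻¹ * v * ⟨g, hg⟩, ?_, ?_⟩
      · simpa using (inferInstance : (Cfsg.oddCore M).Normal).conj_mem v hv ⟨g, hg⟩⁻¹
      · rw [map_mul, map_mul, map_inv, he]
        show g⁻¹ * (g * x * g⁻¹) * g = x
        group
  -- `W` meets `C(t)` trivially
  have hE₀M : E₀ ≤ M := h.le.trans (h.le_C.trans hM)
  have hW0 : W.subgroupOf E₀ = ⊥ := by
    haveI : (W.subgroupOf E₀).Normal := ⟨fun x hx g =>
      mem_subgroupOf.2 ((mem_normalizer_iff.1 (hWn (hE₀M g.2)) (x : G)).1 (mem_subgroupOf.1 hx))⟩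
    exact eq_bot_of_odd_normal h.data
      (hWodd.of_dvd_nat (Subgroup.card_comap_dvd_of_injective _ E₀.subtype E₀.subtype_injective))
  have hWt : ∀ x ∈ W, x * t = t * x → x = 1 := by
    intro x hx hxt
    have hxE : x ∈ E := h.mem_E_of_odd (mem_centralizer_singleton_iff.2 hxt)
      (hWodd.of_dvd_nat (W.orderOf_dvd_natCard hx))
    have h1 : x ∈ E ⊓ centralizer (E₀ : Set G) := by
      refine ⟨hxE, mem_centralizer_iff.2 fun c hc => ?_⟩
      have hm : x * c * x⁻¹ * c⁻¹ ∈ E₀ :=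
        E₀.mul_mem ((mem_normalizer_iff.1 (h.nrm hxE) c).1 hc) (E₀.inv_mem hc)
      have hmW : x * c * x⁻¹ * c⁻¹ ∈ W := by
        rw [show x * c * x⁻¹ * c⁻¹ = x * (c * x⁻¹ * c⁻¹) by group]
        exact W.mul_mem hx ((mem_normalizer_iff.1 (hWn (hE₀M hc)) _).1 (W.inv_mem hx))
      have h2 : (⟨_, hm⟩ : E₀) ∈ W.subgroupOf E₀ := mem_subgroupOf.2 hmW
      rw [hW0, mem_bot] at h2
      have h3 : x * c * x⁻¹ * c⁻¹ = 1 := congrArg Subtype.val h2
      rw [mul_inv_eq_one, mul_inv_eq_iff_eq_mul] at h3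
      exact h3.symm
    rwa [h.cent, mem_bot] at h1
  have hinv : ∀ x ∈ W, t * x * t⁻¹ = x⁻¹ := fun x hx =>
    inverted_of_fixed_eq_one h.ord (hWn htM) hWt hx
  -- nothing in `W` commutes with an involution of `V`
  have hWv : ∀ v ∈ h.V, v ≠ 1 → ∀ x ∈ W, x * v = v * x → x = 1 := by
    intro v hv hv1 x hx hxv
    obtain ⟨g, hgT, hg⟩ := h.fusion_top hna v hv.1 hv1
    set s := g⁻¹ * t * g with hs
    have hsT : s ∈ T := (mem_normalizer_iff''.1 hgT t).1 h.mem
    have hs1 : s ≠ 1 := fun e => involution_ne_one h.ord (by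
      have := congrArg (fun y => g * y * g⁻¹) e
      rw [hs] at this
      simpa [mul_assoc] using this)
    have hst : s ≠ t := fun e => h.t_not_mem_V (by
      have h1 : g * t = t * g := by
        calc g * t = g * (g⁻¹ * t * g) := by rw [← hs, e]
          _ = t * g := by group
      rw [h1, mul_inv_cancel_right] at hg
      exact hg ▸ hv)
    set X := (W ⊓ centralizer ({v} : Set G)).map (MulAut.conj g⁻¹).toMonoidHom with hX
    have hXC : X ≤ centralizer ({t} : Set G) := by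
      rintro _ ⟨y, hy, rfl⟩
      show g⁻¹ * y * g⁻¹⁻¹ ∈ _
      refine mem_centralizer_singleton_iff.2 ?_
      have hyv := mem_centralizer_singleton_iff.1 hy.2
      rw [← hg] at hyv
      calc g⁻¹ * y * g⁻¹⁻¹ * t = g⁻¹ * (y * (g * t * g⁻¹)) * g := by group
        _ = g⁻¹ * (g * t * g⁻¹ * y) * g := by rw [hyv]
        _ = t * (g⁻¹ * y * g⁻¹⁻¹) := by group
    have hXbot : X = ⊥ := by
      refine h.eq_bot_of_inverted_C hsT hs1 hst hXC ?_ ?_ ?_
      · rw [hX, card_map_conj]; exact odd_of_le inf_le_left hWodd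
      · rintro _ ⟨y, hy, rfl⟩
        show s * (g⁻¹ * y * g⁻¹⁻¹) * s⁻¹ = (g⁻¹ * y * g⁻¹⁻¹)⁻¹
        calc s * (g⁻¹ * y * g⁻¹⁻¹) * s⁻¹ = g⁻¹ * (t * y * t⁻¹) * g := by rw [hs]; group
          _ = g⁻¹ * y⁻¹ * g := by rw [hinv y hy.1]
          _ = _ := by group
      · rintro c ⟨hc1, hc2⟩
        have hc1' := mem_centralizer_singleton_iff.1 hc1
        have hc2' := mem_centralizer_singleton_iff.1 hc2
        have h1 : g * c * g⁻¹ ∈ centralizer ({t} : Set G) := mem_centralizer_singleton_iff.2 (by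
          calc g * c * g⁻¹ * t = g * (c * s) * g⁻¹ := by rw [hs]; group
            _ = g * (s * c) * g⁻¹ := by rw [hc2']
            _ = t * (g * c * g⁻¹) := by rw [hs]; group)
        have h2 : g * c * g⁻¹ * v = v * (g * c * g⁻¹) := by
          rw [← hg, conj_mul, conj_mul, hc1']
        refine CfsgLib.Bender.mem_normalizer_of_map_conj_eq
          (eq_of_le_of_card_ge ?_ (card_map_conj c X).ge)
        rintro _ ⟨_, ⟨y, hy, rfl⟩, rfl⟩
        refine ⟨g * c * g⁻¹ * y * (g * c * g⁻¹)⁻¹, ⟨(mem_normalizer_iff.1 (hWn (hM h1)) y).1 hy.1,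
          mem_centralizer_singleton_iff.2 ?_⟩, ?_⟩
        · have hy2 : Commute y v := mem_centralizer_singleton_iff.1 hy.2
          exact ((Commute.mul_left (Commute.mul_left h2 hy2) (Commute.inv_left h2)) : Commute _ v).eq
        · show g⁻¹ * (g * c * g⁻¹ * y * (g * c * g⁻¹)⁻¹) * g⁻¹⁻¹ = c * (g⁻¹ * y * g⁻¹⁻¹) * c⁻¹
          group
    have hxX : g⁻¹ * x * g⁻¹⁻¹ ∈ X := ⟨x, ⟨hx, mem_centralizer_singleton_iff.2 hxv⟩, rfl⟩
    rw [hXbot, mem_bot, conj_eq_one_iff] at hxX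
    exact hxX
  obtain ⟨a, b, ha, hb, ha2, hb2, hab, hc⟩ := h.V_involutions
  have hVn : ∀ v ∈ h.V, v ∈ normalizer (W : Set G) := fun v hv => hWn (hM (h.T_le_C hv.1))
  have hWbot : W ≤ ⊥ := by
    refine le_of_four_centralizers hWodd ha2 hb2 hc hab (hVn a ha) (hVn b hb) fun x hx c hc' hxc =>
      mem_bot.2 ?_
    rcases hc' with rfl | rfl | rfl
    · exact hWv c ha (involution_ne_one ha2) x hx hxc
    · exact hWv c hb (involution_ne_one hb2) x hx hxc
    · refine hWv _ (mul_mem ha hb) (fun e => hab ?_) x hx hxc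
      rw [← involution_inv ha2]; exact (eq_inv_of_mul_eq_one_right e).symm
  intro m hm
  have hO : Cfsg.oddCore M = ⊥ := (map_eq_bot_iff_of_injective _ M.subtype_injective).1 (le_bot_iff.1 hWbot)
  rw [hO, sup_bot_eq] at hsup
  have h1 : (⟨m, hm⟩ : M) ∈ centralizer ({(⟨t, htM⟩ : M)} : Set M) := hsup ▸ mem_top _
  exact mem_centralizer_singleton_iff.2 (congrArg Subtype.val (mem_centralizer_singleton_iff.1 h1))

/-- The fused case: a proper such subgroup is strongly embedded. -/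
theorem stronglyEmbedded {M : Subgroup G} (hM : centralizer ({t} : Set G) ≤ M) (hne : M ≠ ⊤)
    (hf : ∀ x ∈ T, x ≠ 1 → ∃ m ∈ M, m ∈ normalizer ((T : Subgroup G) : Set G) ∧ m * t * m⁻¹ = x) :
    Cfsg.IsStronglyEmbedded M := by
  haveI : Fact (Nat.Prime 2) := ⟨Nat.prime_two⟩
  have hconj : ∀ y ∈ M, orderOf y = 2 → ∃ m ∈ M, m * t * m⁻¹ = y := by
    intro y hy hy2
    obtain ⟨P, hP, hyP⟩ := exists_isSyl_ge (IsPGroup.of_card (p := 2) (n := 1) (G := zpowers y)
      (by rw [Nat.card_zpowers, hy2, pow_one])) (zpowers_le.2 hy)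
    obtain ⟨c, hcM, hcP⟩ := hP.exists_conj (isSyl_of_le T (h.T_le_C.trans hM))
    have h1 : c * y * c⁻¹ ∈ (T : Subgroup G) := hcP ▸ conj_mem_map_conj (hyP (mem_zpowers y))
    obtain ⟨m, hm, -, he⟩ := hf _ h1 (fun e => involution_ne_one hy2 (conj_eq_one_iff.1 e))
    refine ⟨c⁻¹ * m, M.mul_mem (M.inv_mem hcM) hm, ?_⟩
    rw [show c⁻¹ * m * t * (c⁻¹ * m)⁻¹ = c⁻¹ * (m * t * m⁻¹) * c by group, he]
    group
  refine ⟨hne, even_iff_two_dvd.2 (h.ord ▸ M.orderOf_dvd_natCard (hM h.t_mem_C)), fun g hg => ?_⟩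
  rw [← Nat.not_even_iff_odd]
  intro he
  obtain ⟨x, hx, hx2⟩ := CfsgLib.Signalizer.exists_involution_of_even he
  obtain ⟨y, hy, hyx⟩ := hx.2
  have hy2 : orderOf y = 2 := by
    rw [← hyx] at hx2
    exact (orderOf_conj g y).symm.trans hx2
  obtain ⟨m₁, hm₁, he₁⟩ := hconj x hx.1 hx2
  obtain ⟨m₂, hm₂, he₂⟩ := hconj y hy hy2
  refine hg ?_
  have h1 : m₁⁻¹ * g * m₂ ∈ M := hM (mem_centralizer_singleton_iff.2 (by
    have h2 : g * (m₂ * t * m₂⁻¹) * g⁻¹ = m₁ * t * m₁⁻¹ := by rw [he₂, he₁]; exact hyx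
    calc m₁⁻¹ * g * m₂ * t = m₁⁻¹ * (g * (m₂ * t * m₂⁻¹) * g⁻¹) * (g * m₂) := by group
      _ = t * (m₁⁻¹ * g * m₂) := by rw [h2]; group))
  have h3 := M.mul_mem (M.mul_mem hm₁ h1) (M.inv_mem hm₂)
  rwa [show m₁ * (m₁⁻¹ * g * m₂) * m₂⁻¹ = g by group] at h3

theorem isCoatom (hB : CfsgLib.Bender.BenderGen.{u}) [IsSimpleGroup G] (hna : ¬ IsMulCommutative G) :
    IsCoatom (centralizer ({t} : Set G)) := by
  refine ⟨h.centralizer_ne_top hna, fun M hlt => by_contra fun hne => ?_⟩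
  rcases h.fusion hlt.le with hf | hf
  swap
  · exact hlt.not_ge (h.eq_of_isolated hna hlt.le hf)
  have hSE := h.stronglyEmbedded hlt.le hne hf
  have h8 : Nat.card T ≤ 8 := h.card_T_le
  have hdvd : ∀ k : ℕ, 2 ^ k ∣ Nat.card G → k ≤ 3 := by
    intro k hk
    haveI : Fact (Nat.Prime 2) := ⟨Nat.prime_two⟩
    have h1 : 2 ^ k ≤ 8 := (Nat.le_of_dvd Nat.card_pos (T.pow_dvd_card_of_pow_dvd_card hk)).trans h8
    exact (Nat.pow_le_pow_iff_right (by norm_num)).1 (h1.trans_eq (by norm_num : (8 : ℕ) = 2 ^ 3))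
  rcases CfsgLib.Bender.classify_of_benderGen hB hSE with ⟨F, _, _, ⟨n, hn, hF⟩, ⟨e⟩⟩ | hSz | ⟨F, _, _, n, hn, hF, ⟨e⟩⟩
  · -- `L₂(2ⁿ)`: centralisers of involutions have exponent two
    haveI : CharP F 2 := charP_of_card_eq_prime_pow (f := n) hF
    obtain ⟨e'⟩ := CfsgLib.Recog.AffineTwo.psl_equiv_sl F
    let f := e.trans e'
    obtain ⟨a, b, ha, hb, ha2, hb2, hab, -⟩ := h.V_involutions
    obtain ⟨m, hm, hmV, hme⟩ := h.conj_V ha hb (involution_ne_one ha2) (involution_ne_one hb2)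
    have hmm : m * m = 1 := f.injective (by
      rw [map_mul, map_one]
      refine CfsgLib.GW.DGroup.sq_eq_one_of_commute (t := f t) (by rw [← map_mul, involution_sq h.ord, map_one])
        (fun e1 => involution_ne_one h.ord (f.injective (e1.trans (map_one f).symm))) ?_
      rw [← map_mul, ← map_mul, h.commute_E (h.le hm)])
    -- `m` lies in `V`
    haveI : Fact (Nat.Prime 2) := ⟨Nat.prime_two⟩
    have hzp : IsPGroup 2 (zpowers m) := by
      intro x
      obtain ⟨k, hk⟩ := mem_zpowers_iff.1 x.2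
      refine ⟨1, Subtype.ext ?_⟩
      rw [Subgroup.coe_pow, ← hk, pow_one, ← zpow_natCast, ← zpow_mul, mul_comm k, zpow_mul, zpow_natCast, pow_two, hmm, one_zpow]
      rfl
    have hmW := hzp.to_sup_of_normal_right' h.isSyl_V.isPGroup (zpowers_le.2 hmV)
    have hle : zpowers m ⊔ h.V ≤ E₀ := sup_le (zpowers_le.2 hm) inf_le_right
    have hVeq := h.isSyl_V.eq_of_le hmW le_sup_right hle
    have hmv : m ∈ h.V := hVeq ▸ mem_sup_left (mem_zpowers m)
    rw [h.V_comm m hmv a ha, mul_inv_cancel_right] at hme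
    exact hab hme
  · obtain ⟨-, m, hm, hc⟩ := hSz
    have := hdvd ((2 * m + 1) * 2) (hc ▸ Dvd.dvd.mul_right (Dvd.dvd.mul_right (by rw [← pow_mul]) _) _)
    omega
  · have hc := CfsgLib.Classical.Herm.card_PSU hF 3 (by norm_num)
    rw [← Nat.card_congr e.toEquiv] at hc
    have hd : 2 ^ (n * 3) ∣ Nat.gcd 3 (2 ^ n + 1) * ((2 ^ n + 1) * Nat.card G) := by
      rw [hc, show 3 * (3 - 1) / 2 = 3 by norm_num, ← pow_mul]
      exact dvd_mul_right _ _
    have hodd : Nat.Coprime 2 (2 ^ n + 1) :=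
      Nat.coprime_two_left.2 (Even.add_one (Nat.even_pow.2 ⟨even_two, by omega⟩))
    have := hdvd (n * 3) (((hodd.pow_left _).dvd_of_dvd_mul_left
      (((Nat.Coprime.coprime_dvd_right (Nat.gcd_dvd_right 3 _) hodd).pow_left _).dvd_of_dvd_mul_left hd)))
    omega

end Conf

end CfsgLib.AbelianPSL
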