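import Cfsg.Agent.Lib.TwoFusion.AbelianPSL.PSL
import Cfsg.Agent.S0205

/-!
Owner: helper15. Consequences of `PSLData` (for S1245).
-/

set_option autoImplicit false
set_option linter.unusedSectionVars false

namespace CfsgLib.AbelianPSL

open Subgroup
open CfsgLib.Signalizer (involution_sq involution_inv orderOf_eq_two_of involution_ne_one orderOf_conj)
open CfsgLib.Bender (le_of_four_centralizers map_conj_eq_of_mem_normalizer)

variable {L : Type*} [Group L] [Finite L] (D : PSLData L)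
include D

omit [Finite L] in
theorem exists_partner {s : L} (hs : orderOf s = 2) : ∃ v : L, orderOf v = 2 ∧ v ≠ s ∧ s * v = v * s := by
  obtain ⟨a, b, ha, hb, hne, hc⟩ := D.four
  obtain ⟨g, rfl⟩ := isConj_iff.1 (D.conj a s ha hs)
  refine ⟨g * b * g⁻¹, (orderOf_conj g b).trans hb, fun e => hne ?_, ?_⟩
  · simpa using e.symm
  · simp only [conj_mul, hc]

omit [Finite L] in
theorem sq_of_commute_four {x g h : L} (hg : orderOf g = 2) (hh : orderOf h = 2) (hne : g ≠ h)
    (hxg : x * g = g * x) (hxh : x * h = h * x) : x * x = 1 :=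
  by_contra fun hx => hne (D.unique x g h hx hg hh hxg hxh)

omit [Finite L] in
theorem sq_ne_one_of_odd {x : L} (hx : Odd (orderOf x)) (hx1 : x ≠ 1) : x * x ≠ 1 := fun h =>
  hx1 (CfsgLib.ZStar.eq_one_of_odd_of_sq hx (by rw [pow_two]; exact h))

/-- An odd subgroup inverted by an involution and normalised by its centraliser is trivial. -/
theorem eq_bot_of_inverted {s : L} (hs : orderOf s = 2) {X : Subgroup L} (hX : Odd (Nat.card X))
    (hinv : ∀ x ∈ X, s * x * s⁻¹ = x⁻¹) (hn : centralizer ({s} : Set L) ≤ normalizer (X : Set L)) :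
    X = ⊥ := by
  obtain ⟨v, hv, hvs, hc⟩ := exists_partner D hs
  have hodd : ∀ x ∈ X, Odd (orderOf x) := fun x hx => hX.of_dvd_nat (X.orderOf_dvd_natCard hx)
  have hab : ∀ x ∈ X, ∀ y ∈ X, x * y = y * x := by
    intro x hx y hy
    have h1 := hinv _ (mul_mem hx hy)
    rw [← conj_mul, hinv x hx, hinv y hy, mul_inv_rev] at h1
    have h2 := congrArg (·⁻¹) h1
    simpa using h2.symm
  have hvX : ∀ x ∈ X, v * x * v⁻¹ ∈ X := fun x hx =>
    (mem_normalizer_iff.1 (hn (mem_centralizer_singleton_iff.2 hc.symm)) x).1 hx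
  -- some involution commuting with `s` centralises `X`
  obtain ⟨u, hu, hus, huc, huX⟩ : ∃ u, orderOf u = 2 ∧ u ≠ s ∧ u * s = s * u ∧ ∀ x ∈ X, x * u = u * x := by
    by_cases hfix : ∃ y ∈ X, y ≠ 1 ∧ v * y * v⁻¹ = y
    · obtain ⟨y, hy, hy1, hvy⟩ := hfix
      refine ⟨v, hv, hvs, hc.symm, fun z hz => ?_⟩
      have hyv : y * v = v * y := by
        conv_rhs => rw [← mul_inv_cancel_right (v * y) v⁻¹, inv_inv]
        rw [hvy]
      have hconj : z * v * z⁻¹ = v := D.unique y _ v (sq_ne_one_of_odd D (hodd y hy) hy1)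
        ((orderOf_conj z v).trans hv) hv (by
          calc y * (z * v * z⁻¹) = (y * z) * v * z⁻¹ := by group
            _ = z * (y * v) * z⁻¹ := by rw [hab y hy z hz]; group
            _ = z * v * (y * z⁻¹) := by rw [hyv]; group
            _ = z * v * (z⁻¹ * y) := by rw [hab y hy z⁻¹ (inv_mem hz)]
            _ = z * v * z⁻¹ * y := by group) hyv
      exact mul_inv_eq_iff_eq_mul.1 hconj
    · push Not at hfix
      have hsv : orderOf (s * v) = 2 := by
        refine orderOf_eq_two_of (fun e => hvs ?_) ?_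
        · rw [eq_inv_of_mul_eq_one_right e, involution_inv hs]
        · rw [mul_assoc, ← mul_assoc v, ← hc, mul_assoc s v, involution_sq hv, mul_one, involution_sq hs]
      refine ⟨s * v, hsv, fun e => involution_ne_one hv (by simpa using e), by rw [mul_assoc, ← hc], fun x hx => ?_⟩
      have h1 : x * (v * x * v⁻¹) = 1 := by
        refine by_contra fun hne => hfix _ (mul_mem hx (hvX x hx)) hne ?_
        rw [← conj_mul, show v * (v * x * v⁻¹) * v⁻¹ = (v * v) * x * (v * v)⁻¹ by group, involution_sq hv,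
          one_mul, inv_one, mul_one]
        exact hab _ (hvX x hx) x hx
      have h2 : v * x * v⁻¹ = x⁻¹ := eq_inv_of_mul_eq_one_right h1
      have h3 : s * v * x * (s * v)⁻¹ = x := by
        rw [show s * v * x * (s * v)⁻¹ = s * (v * x * v⁻¹) * s⁻¹ by group, h2, hinv _ (inv_mem hx), inv_inv]
      exact (mul_inv_eq_iff_eq_mul.1 h3).symm
  refine (eq_bot_iff_forall _).2 fun x hx => by_contra fun hx1 => ?_
  have hsq := sq_ne_one_of_odd D (hodd x hx) hx1
  -- the centraliser of `s` centralises `u`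
  have hCu : ∀ g : L, g * s = s * g → g * u = u * g := by
    intro g hg
    have hgn := hn (mem_centralizer_singleton_iff.2 hg)
    have hx' : g⁻¹ * x * g ∈ X := (mem_normalizer_iff''.1 hgn x).1 hx
    have h : x * (g * u * g⁻¹) = g * u * g⁻¹ * x := by
      calc x * (g * u * g⁻¹) = g * ((g⁻¹ * x * g) * u) * g⁻¹ := by group
        _ = g * (u * (g⁻¹ * x * g)) * g⁻¹ := by rw [huX _ hx']
        _ = g * u * g⁻¹ * x := by group
    exact mul_inv_eq_iff_eq_mul.1 (D.unique x _ u hsq ((orderOf_conj g u).trans hu) hu h (huX x hx))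
  obtain ⟨h, rfl⟩ := isConj_iff.1 (D.conj s u hs hu)
  have hy : (h⁻¹ * x * h) * s = s * (h⁻¹ * x * h) := by
    calc (h⁻¹ * x * h) * s = h⁻¹ * (x * (h * s * h⁻¹)) * h := by group
      _ = h⁻¹ * ((h * s * h⁻¹) * x) * h := by rw [huX x hx]
      _ = s * (h⁻¹ * x * h) := by group
  have h2 := sq_of_commute_four D hs hu hus.symm hy (hCu _ hy)
  refine hsq ?_
  calc x * x = h * ((h⁻¹ * x * h) * (h⁻¹ * x * h)) * h⁻¹ := by group
    _ = 1 := by rw [h2, mul_one, mul_inv_cancel]

theorem eq_bot_of_odd_normal {X : Subgroup L} [hXn : X.Normal] (hX : Odd (Nat.card X)) : X = ⊥ := by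
  obtain ⟨n, hn⟩ : ∃ n, Nat.card X = n := ⟨_, rfl⟩
  induction n using Nat.strong_induction_on generalizing X with
  | _ n ih =>
  by_contra hne
  haveI : Group.IsSolvable X := Cfsg.Agent.S0205.result hX
  haveI : Nontrivial X := (nontrivial_iff_ne_bot X).2 hne
  have hlt : ⁅X, X⁆ < X := by
    refine lt_of_le_of_ne (commutator_le_self X) fun e => ?_
    refine (Group.IsSolvable.commutator_lt_top_of_nontrivial (G := X)).ne ?_
    apply map_injective X.subtype_injective
    rw [map_subtype_commutator, ← MonoidHom.range_eq_map, range_subtype]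
    exact e
  have hcard : Nat.card (⁅X, X⁆ : Subgroup L) < n := hn ▸ lt_of_le_of_ne (card_le_of_le hlt.le)
    fun e => hlt.ne (eq_of_le_of_card_ge hlt.le e.ge)
  have hX' : ⁅X, X⁆ = ⊥ := ih _ hcard (CfsgLib.Bender.odd_of_le hlt.le hX) rfl
  have hab : ∀ x ∈ X, ∀ y ∈ X, x * y = y * x := fun x hx y hy => by
    have h := commutator_mem_commutator hx hy
    rw [hX', mem_bot, commutatorElement_eq_one_iff_mul_comm] at h
    exact h
  obtain ⟨a, b, ha, hb, hne', hc⟩ := D.four
  have hconj : ∀ g : L, g ∈ normalizer (X : Set L) := fun g => by rw [normalizer_eq_top]; trivial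
  obtain ⟨x, hx, u, hu, hx1, hxu⟩ : ∃ x ∈ X, ∃ u : L, orderOf u = 2 ∧ x ≠ 1 ∧ x * u = u * x := by
    by_contra hcon
    push Not at hcon
    have hab2 : orderOf (a * b) = 2 := by
      refine orderOf_eq_two_of (fun e => hne' ?_) ?_
      · rw [← involution_inv ha]; exact (eq_inv_of_mul_eq_one_right e).symm
      · rw [mul_assoc, ← mul_assoc b, ← hc, mul_assoc a b, involution_sq hb, mul_one, involution_sq ha]
    refine hne (le_bot_iff.1 (le_of_four_centralizers hX ha hb hc hne' (hconj a) (hconj b)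
      fun z hz c hc' hzc => mem_bot.2 (by_contra fun hz1 => ?_)))
    rcases hc' with rfl | rfl | rfl
    · exact hcon z hz c ha hz1 hzc
    · exact hcon z hz c hb hz1 hzc
    · exact hcon z hz _ hab2 hz1 hzc
  obtain ⟨v, hv, hvu, hcu⟩ := exists_partner D hu
  obtain ⟨g, hg⟩ := isConj_iff.1 (D.conj u v hu hv)
  subst hg
  set y := g * x * g⁻¹ with hy
  have hyX : y ∈ X := hXn.conj_mem x hx g
  have hodd : ∀ z ∈ X, Odd (orderOf z) := fun z hz => hX.of_dvd_nat (X.orderOf_dvd_natCard hz)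
  have hyu : y * u = u * y := by
    refine mul_inv_eq_iff_eq_mul.1 (D.unique x _ u (sq_ne_one_of_odd D (hodd x hx) hx1)
      ((orderOf_conj y u).trans hu) hu ?_ hxu)
    calc x * (y * u * y⁻¹) = (x * y) * u * y⁻¹ := by group
      _ = y * (x * u) * y⁻¹ := by rw [hab x hx y hyX]; group
      _ = y * u * (x * y⁻¹) := by rw [hxu]; group
      _ = y * u * (y⁻¹ * x) := by rw [hab x hx y⁻¹ (inv_mem hyX)]
      _ = y * u * y⁻¹ * x := by group
  have hyv : y * (g * u * g⁻¹) = g * u * g⁻¹ * y := by rw [hy]; simp only [conj_mul, hxu]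
  have hy1 : y ≠ 1 := fun e => hx1 (by rw [hy, conj_eq_one_iff] at e; exact e)
  exact sq_ne_one_of_odd D (hodd y hyX) hy1 (sq_of_commute_four D hu hv hvu.symm hyu hyv)

theorem center_eq_bot : center L = ⊥ := by
  refine (eq_bot_iff_forall _).2 fun z hz => ?_
  obtain ⟨a, b, ha, hb, hne, -⟩ := D.four
  have hzz : z * z = 1 := sq_of_commute_four D ha hb hne ((mem_center_iff.1 hz a).symm) ((mem_center_iff.1 hz b).symm)
  by_contra hz1
  have hz2 : orderOf z = 2 := orderOf_eq_two_of hz1 hzz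
  obtain ⟨g, hg⟩ := isConj_iff.1 (D.conj z a hz2 ha)
  obtain ⟨g', hg'⟩ := isConj_iff.1 (D.conj z b hz2 hb)
  rw [mem_center_iff.1 hz g, mul_inv_cancel_right] at hg
  rw [mem_center_iff.1 hz g', mul_inv_cancel_right] at hg'
  exact hne (hg.symm.trans hg')

theorem pPrimeCore_eq_bot : Cfsg.pPrimeCore 2 L = ⊥ := by
  haveI : (Cfsg.pPrimeCore 2 L).Normal := CfsgLib.Core.normal_pPrimeCore 2 L
  exact eq_bot_of_odd_normal D (Nat.coprime_two_right.1 (CfsgLib.Core.coprime_card_pPrimeCore 2 L))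

end CfsgLib.AbelianPSL
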