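import Cfsg.Agent.Lib.GW.Dne.PSLAut
import Cfsg.Agent.Lib.Classical.PSLAbelianSylow
import Cfsg.Agent.Lib.Classical.SmallIso
import Cfsg.Agent.Lib.Bender.GroupLemmas

/-!
Owner: helper15. The properties of `PSL(2,q)`, `q ≡ 3, 5 (mod 8)`, used for S1245.
-/

set_option autoImplicit false
set_option linter.unusedSectionVars false

namespace CfsgLib.AbelianPSL

open Matrix CfsgLib.PLocal.SLTwo

/-- The properties of `PSL(2,q)`, `q ≡ ±3 (mod 8)`, which are used. -/
structure PSLData (L : Type*) [Group L] : Prop where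
  /-- An element of order at least three centralises at most one involution. -/
  unique : ∀ x g h : L, x * x ≠ 1 → orderOf g = 2 → orderOf h = 2 → x * g = g * x → x * h = h * x → g = h
  conj : ∀ a b : L, orderOf a = 2 → orderOf b = 2 → IsConj a b
  four : ∃ a b : L, orderOf a = 2 ∧ orderOf b = 2 ∧ a ≠ b ∧ a * b = b * a
  two_pow : (Nat.card L).factorization 2 = 2

theorem PSLData.of_equiv {K L : Type*} [Group K] [Group L] (h : PSLData K) (e : L ≃* K) : PSLData L where
  unique x g k hx hg hk hxg hxk := e.injective (h.unique (e x) (e g) (e k)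
    (fun hh => hx (e.injective (by rw [map_mul, map_one]; exact hh)))
    (by rw [MulEquiv.orderOf_eq]; exact hg) (by rw [MulEquiv.orderOf_eq]; exact hk)
    (by rw [← map_mul, ← map_mul, hxg]) (by rw [← map_mul, ← map_mul, hxk]))
  conj a b ha hb := by
    have h1 := e.symm.toMonoidHom.map_isConj (h.conj (e a) (e b) (by rw [MulEquiv.orderOf_eq]; exact ha)
      (by rw [MulEquiv.orderOf_eq]; exact hb))
    simpa using h1
  four := by
    obtain ⟨a, b, ha, hb, hne, hc⟩ := h.four
    refine ⟨e.symm a, e.symm b, ?_, ?_, e.symm.injective.ne hne, by rw [← map_mul, ← map_mul, hc]⟩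
    · rw [MulEquiv.orderOf_eq]; exact ha
    · rw [MulEquiv.orderOf_eq]; exact hb
  two_pow := by rw [Nat.card_congr e.toEquiv]; exact h.two_pow

section PSL

variable {F : Type*} [Field F] [Fintype F]

local notation "L2" => ProjectiveSpecialLinearGroup (Fin 2) F

omit [Fintype F] in
theorem mk_eq_one_iff (x : S2 F) : (QuotientGroup.mk x : L2) = 1 ↔ x = 1 ∨ x = -1 := by
  rw [QuotientGroup.eq_one_iff, CfsgLib.Known.SL2ClassSizes.mem_center_iff']

theorem lift_sq (h2 : (2 : F) ≠ 0) {x : S2 F} (hx : orderOf (QuotientGroup.mk x : L2) = 2) :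
    x * x = -1 := by
  have ht : x.1 0 0 + x.1 1 1 = 0 := CfsgLib.GW.Dne.PSLAut.trc_lift_involution h2 hx
  have hd := det2 x
  refine ext2 ?_ ?_ ?_ ?_ <;> simp only [m00, m01, m10, m11, neg_entry, one00, one01, one10, one11]
  · linear_combination (x.1 0 0) * ht - hd
  · linear_combination (x.1 0 1) * ht
  · linear_combination (x.1 1 0) * ht
  · linear_combination (x.1 1 1) * ht - hd

theorem unique_involution (h2 : (2 : F) ≠ 0) (x g h : L2) (hx : x * x ≠ 1) (hg : orderOf g = 2)
    (hh : orderOf h = 2) (hxg : x * g = g * x) (hxh : x * h = h * x) : g = h := by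
  obtain ⟨A, rfl⟩ := QuotientGroup.mk_surjective x
  obtain ⟨B, rfl⟩ := QuotientGroup.mk_surjective g
  obtain ⟨C, rfl⟩ := QuotientGroup.mk_surjective h
  have htr : tr A ≠ 0 := by
    intro ht
    refine hx ?_
    rw [← QuotientGroup.mk_mul, mk_eq_one_iff]
    refine Or.inr ?_
    have ht' : A.1 0 0 + A.1 1 1 = 0 := ht
    have hd := det2 A
    refine ext2 ?_ ?_ ?_ ?_ <;> simp only [m00, m01, m10, m11, neg_entry, one00, one01, one10, one11]
    · linear_combination (A.1 0 0) * ht' - hd
    · linear_combination (A.1 0 1) * ht'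
    · linear_combination (A.1 1 0) * ht'
    · linear_combination (A.1 1 1) * ht' - hd
  have hns : NonScalar A := by
    intro hs
    refine hx ?_
    have hA : (QuotientGroup.mk A : L2) = 1 := (mk_eq_one_iff A).2 (scalar_cases (fun hn => hn hs))
    rw [hA, one_mul]
  have lift : ∀ D : S2 F, (QuotientGroup.mk A : L2) * QuotientGroup.mk D = QuotientGroup.mk D * QuotientGroup.mk A →
      A * D = D * A := by
    intro D hD
    have hmem : D ∈ CfsgLib.Known.SL2ClassSizes.pre A :=
      Subgroup.mem_comap.2 (Subgroup.mem_centralizer_singleton_iff.2 hD.symm)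
    rw [CfsgLib.Known.SL2ClassSizes.pre_eq h2 htr, Subgroup.mem_centralizer_singleton_iff] at hmem
    exact hmem.symm
  have hBC : B * C = C * B := commute_of_commute hns (lift B hxg) (lift C hxh)
  have hsq : (B * C) * (B * C) = 1 := by
    have e : (B * C) * (B * C) = B * B * (C * C) := by
      rw [mul_assoc, ← mul_assoc C B C, ← hBC]; simp [mul_assoc]
    rw [e, lift_sq h2 hg, lift_sq h2 hh, neg_mul_neg, one_mul]
  have h1 : (QuotientGroup.mk (B * C) : L2) = 1 :=
    (mk_eq_one_iff _).2 (CfsgLib.Classical.SwapPair.eq_one_or_neg_one h2 hsq)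
  rw [QuotientGroup.mk_mul, mul_eq_one_iff_eq_inv] at h1
  rw [h1]
  exact CfsgLib.Signalizer.involution_inv hh

theorem exists_four (h2 : (2 : F) ≠ 0) :
    ∃ a b : L2, orderOf a = 2 ∧ orderOf b = 2 ∧ a ≠ b ∧ a * b = b * a := by
  obtain ⟨u, w, huw⟩ := CfsgLib.Classical.SwapPair.exists_sq_add_sq h2 (-1 : F)
  let b : S2 F := ⟨!![u, w; w, -u], by simp [Matrix.det_fin_two]; linear_combination -huw⟩
  let q : S2 F := CfsgLib.Classical.SwapPair.quarter F
  have hne : (1 : F) ≠ -1 := fun h => h2 (by linear_combination h)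
  have hqq : q * q = -1 := by
    refine ext2 ?_ ?_ ?_ ?_ <;> simp only [m00, m01, m10, m11, neg_entry, one00, one01, one10, one11] <;>
      simp [q, CfsgLib.Classical.SwapPair.quarter]
  have hbb : b * b = -1 := by
    refine ext2 ?_ ?_ ?_ ?_ <;> simp only [m00, m01, m10, m11, neg_entry, one00, one01, one10, one11] <;>
      simp [b] <;>
      first | ring1 | linear_combination huw
  have hqb : q * b = -(b * q) := by
    refine ext2 ?_ ?_ ?_ ?_ <;> simp only [m00, m01, m10, m11, neg_entry, one00, one01, one10, one11] <;>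
      simp [q, b, CfsgLib.Classical.SwapPair.quarter]
  have hord : ∀ y : S2 F, y * y = -1 → orderOf (QuotientGroup.mk y : L2) = 2 := by
    intro y hy
    refine CfsgLib.Signalizer.orderOf_eq_two_of (fun e => ?_) ?_
    · rcases (mk_eq_one_iff y).1 e with rfl | rfl <;>
        simp at hy <;>
        exact hne (by simpa using congrArg (fun z : S2 F => z.1 0 0) hy)
    · rw [← QuotientGroup.mk_mul, mk_eq_one_iff]; exact Or.inr hy
  refine ⟨_, _, hord q hqq, hord b hbb, fun e => ?_, ?_⟩
  · rw [QuotientGroup.eq, CfsgLib.Known.SL2ClassSizes.mem_center_iff'] at e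
    have hc : q * b = b * q := by
      rcases e with e | e
      · rw [inv_mul_eq_one.1 e]
      · rw [inv_mul_eq_iff_eq_mul.1 e]; simp
    rw [hc] at hqb
    have h1 := congrArg (fun z : S2 F => z * (q⁻¹ * b⁻¹)) hqb
    simp only [neg_mul] at h1
    rw [show b * q * (q⁻¹ * b⁻¹) = 1 by group] at h1
    exact hne (by simpa using congrArg (fun z : S2 F => z.1 0 0) h1)
  · rw [← QuotientGroup.mk_mul, ← QuotientGroup.mk_mul, QuotientGroup.eq,
      CfsgLib.Known.SL2ClassSizes.mem_center_iff']
    refine Or.inr ?_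
    rw [hqb, inv_mul_eq_iff_eq_mul]
    simp

theorem factorization_two {q : ℕ} (h8 : q % 8 = 3 ∨ q % 8 = 5) {n : ℕ} (hn : 2 * n = q * (q ^ 2 - 1)) :
    n.factorization 2 = 2 := by
  have hn' : n = q * ((q - 1) / 2) * ((q + 1) / 2) * 2 := by
    have e1 : q - 1 = 2 * ((q - 1) / 2) := by omega
    have e2 : q + 1 = 2 * ((q + 1) / 2) := by omega
    have e3 : q ^ 2 - 1 = (q + 1) * (q - 1) := by
      simpa using Nat.sq_sub_sq q 1
    rw [e3, e1, e2] at hn
    refine Nat.eq_of_mul_eq_mul_left (show 0 < 2 by norm_num) (hn.trans ?_)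
    ring
  obtain ⟨k, hk, hn''⟩ : ∃ k, k % 2 = 1 ∧ n = 2 ^ 2 * k := by
    rcases h8 with h | h
    · refine ⟨q * ((q - 1) / 2) * ((q + 1) / 4), ?_, ?_⟩
      · rw [Nat.mul_mod, Nat.mul_mod q, show q % 2 = 1 by omega, show (q - 1) / 2 % 2 = 1 by omega,
          show (q + 1) / 4 % 2 = 1 by omega]
      · rw [hn', show (q + 1) / 2 = 2 * ((q + 1) / 4) by omega]; ring
    · refine ⟨q * ((q - 1) / 4) * ((q + 1) / 2), ?_, ?_⟩
      · rw [Nat.mul_mod, Nat.mul_mod q, show q % 2 = 1 by omega, show (q - 1) / 4 % 2 = 1 by omega,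
          show (q + 1) / 2 % 2 = 1 by omega]
      · rw [hn', show (q - 1) / 2 = 2 * ((q - 1) / 4) by omega]; ring
  rw [hn'', Nat.factorization_mul (by norm_num) (by omega), Finsupp.add_apply,
    Nat.factorization_eq_zero_of_not_dvd (show ¬ 2 ∣ k by omega), add_zero,
    Nat.Prime.factorization_pow Nat.prime_two, Finsupp.single_eq_same]

theorem pslData (hodd : Odd (Fintype.card F)) (P : Sylow 2 L2) (hab : IsMulCommutative (P : Subgroup L2)) :
    PSLData L2 := by
  have h2 : (2 : F) ≠ 0 := by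
    intro h
    have hc : ringChar F = 2 := CharP.ringChar_of_prime_eq_zero Nat.prime_two (by exact_mod_cast h)
    have := FiniteField.even_card_of_char_two hc
    have := Nat.odd_iff.1 hodd
    omega
  have h8 := CfsgLib.Classical.AbSylow.mod_eight_of_abelian_sylow_PSL hodd P hab
  refine ⟨unique_involution h2, fun a b ha hb => CfsgLib.GW.Dne.PSLAut.isConj_involutions h2 ha hb,
    exists_four h2, factorization_two h8 ?_⟩
  have hc := CfsgLib.Classical.Two.card_PSL_two (F := F)
  rwa [show Nat.gcd 2 (Fintype.card F - 1) = 2 from Nat.gcd_eq_left (by omega)] at hc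

end PSL

end CfsgLib.AbelianPSL
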