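import Cfsg.Agent.Lib.TwoFusion.AbelianPSL.Main

/-!
Owner: helper15. S1245 from Bender's theorem.
-/

set_option autoImplicit false
set_option linter.style.haveILetI false

namespace CfsgLib.AbelianPSL

open Subgroup

universe u

theorem result_of_benderGen (hB : CfsgLib.Bender.BenderGen.{u}) {G : Type u} [Group G] [Finite G]
    [IsSimpleGroup G] (hna : ¬ IsMulCommutative G) (S : Sylow 2 G) (hS : IsMulCommutative (S : Subgroup G))
    (t : G) (ht : orderOf t = 2) (E E₀ : Subgroup G)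
    (hprod : Cfsg.IsInternalDirectProduct (zpowers t) E (centralizer ({t} : Set G))) (hle : E₀ ≤ E)
    (hn : (E₀.subgroupOf E).Normal)
    (hE₀ : ∃ (F : Type) (_ : Field F) (_ : Fintype F), Odd (Fintype.card F) ∧
      Nonempty (E₀ ≃* Matrix.ProjectiveSpecialLinearGroup (Fin 2) F))
    (hCE : E ⊓ centralizer (E₀ : Set G) = ⊥) : IsCoatom (centralizer ({t} : Set G)) := by
  haveI : Fact (Nat.Prime 2) := ⟨Nat.prime_two⟩
  have hab : ∀ P : Sylow 2 G, ∀ a ∈ P, ∀ b ∈ P, a * b = b * a := fun P a ha b hb =>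
    congrArg Subtype.val ((Sylow.equiv P S).injective
      (show Sylow.equiv P S (⟨a, ha⟩ * ⟨b, hb⟩) = Sylow.equiv P S (⟨b, hb⟩ * ⟨a, ha⟩) by
        rw [map_mul, map_mul]; exact hS.is_comm.comm _ _))
  obtain ⟨T, hT⟩ := (IsPGroup.of_card (p := 2) (n := 1) (G := zpowers t)
    (by rw [Nat.card_zpowers, ht, pow_one])).exists_le_sylow
  obtain ⟨F, _, _, hodd, ⟨e⟩⟩ := hE₀
  obtain ⟨P⟩ : Nonempty (Sylow 2 (Matrix.ProjectiveSpecialLinearGroup (Fin 2) F)) := inferInstance
  have hPab : IsMulCommutative (P : Subgroup (Matrix.ProjectiveSpecialLinearGroup (Fin 2) F)) := by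
    let φ : Matrix.ProjectiveSpecialLinearGroup (Fin 2) F →* G := E₀.subtype.comp e.symm.toMonoidHom
    have hφ : Function.Injective φ := E₀.subtype_injective.comp e.symm.injective
    obtain ⟨Q, hQ⟩ := (P.isPGroup'.map φ).exists_le_sylow
    exact ⟨⟨fun a b => Subtype.ext (hφ (by
      rw [Subgroup.coe_mul, Subgroup.coe_mul, map_mul, map_mul]
      exact hab Q _ (hQ (mem_map_of_mem φ a.2)) _ (hQ (mem_map_of_mem φ b.2))))⟩⟩
  exact Conf.isCoatom
    ⟨ht, hab, hT (mem_zpowers t), hprod, hle,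
      (normal_subgroupOf_iff_le_normalizer hle).1 hn, hCE, (pslData hodd P hPab).of_equiv e⟩ hB hna

end CfsgLib.AbelianPSL
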