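import Cfsg.Agent.Lib.TwoFusion.AbelianPSL.Local
import Cfsg.Agent.Lib.Bender.Setting
import Cfsg.Agent.Lib.Classical.SwapPair
import Cfsg.Agent.S4593
import Cfsg.Prelude.Def_TwoFusion

/-!
Owner: helper15. The configuration of S1245: `C(t) = ⟨t⟩ × E` with `E₀ ≅ PSL(2,q)` normal in `E`, self
centralising, and abelian Sylow 2-subgroups. The Sylow group is `⟨t⟩ × V` and fusion in subgroups
containing `C(t)` is all or nothing.
-/

set_option autoImplicit false
set_option linter.unusedSectionVars false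
set_option linter.style.haveILetI false

namespace CfsgLib.AbelianPSL

open Subgroup
open CfsgLib.Signalizer (involution_sq involution_inv orderOf_eq_two_of involution_ne_one orderOf_conj)
open CfsgLib.Bender (IsSyl exists_isSyl_ge exists_isSyl map_conj_eq_of_mem_normalizer mem_normalizer_of_map_conj_eq
  vp_card_mono mem_map_conj conj_mem_map_conj card_map_conj card_conj_class vp)

variable {G : Type*} [Group G] [Finite G]

/-- The configuration. -/
structure Conf (t : G) (T : Sylow 2 G) (E E₀ : Subgroup G) : Prop where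
  ord : orderOf t = 2
  abelian : ∀ S : Sylow 2 G, ∀ a ∈ S, ∀ b ∈ S, a * b = b * a
  mem : t ∈ T
  prod : Cfsg.IsInternalDirectProduct (zpowers t) E (centralizer ({t} : Set G))
  le : E₀ ≤ E
  nrm : E ≤ normalizer (E₀ : Set G)
  cent : E ⊓ centralizer (E₀ : Set G) = ⊥
  data : PSLData E₀

theorem isSyl_of_le (T : Sylow 2 G) {H : Subgroup G} (h : (T : Subgroup G) ≤ H) :
    IsSyl 2 (T : Subgroup G) H := by
  refine ⟨h, ?_⟩
  rw [T.card_eq_multiplicity]
  congr 1
  refine le_antisymm ?_ ((Nat.factorization_le_iff_dvd Nat.card_pos.ne' Nat.card_pos.ne').2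
    H.card_subgroup_dvd_card 2)
  have h1 := vp_card_mono (p := 2) h
  simp only [vp] at h1
  rw [T.card_eq_multiplicity, Nat.Prime.factorization_pow Nat.prime_two, Finsupp.single_eq_same] at h1
  exact h1

/-- Elements of an abelian Sylow subgroup conjugate in `H` are conjugate in its normaliser. -/
theorem exists_normalizer_conj {P H : Subgroup G} (hP : IsSyl 2 P H)
    (hab : ∀ a ∈ P, ∀ b ∈ P, a * b = b * a) {x y h : G} (hx : x ∈ P) (hy : y ∈ P) (hh : h ∈ H)
    (he : h * x * h⁻¹ = y) : ∃ n ∈ H, n ∈ normalizer (P : Set G) ∧ n * x * n⁻¹ = y := by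
  haveI : Fact (Nat.Prime 2) := ⟨Nat.prime_two⟩
  set K := H ⊓ centralizer ({y} : Set G) with hK
  have hPK : P ≤ K := le_inf hP.le fun a ha => mem_centralizer_singleton_iff.2 (hab a ha y hy)
  have hP' : P.map (MulAut.conj h).toMonoidHom ≤ K := by
    rintro _ ⟨a, ha, rfl⟩
    refine ⟨H.mul_mem (H.mul_mem hh (hP.le ha)) (H.inv_mem hh), mem_centralizer_singleton_iff.2 ?_⟩
    show h * a * h⁻¹ * y = y * (h * a * h⁻¹)
    rw [← he, conj_mul, conj_mul, hab a ha x hx]
  have hv : vp 2 (Nat.card K) = vp 2 (Nat.card H) :=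
    le_antisymm (vp_card_mono inf_le_left) (hP.vp_eq ▸ vp_card_mono hPK)
  have h1 : IsSyl 2 P K := ⟨hPK, by rw [hP.2, hv]⟩
  have h2 : IsSyl 2 (P.map (MulAut.conj h).toMonoidHom) K := ⟨hP', by rw [card_map_conj, hP.2, hv]⟩
  obtain ⟨c, hc, hcP⟩ := h2.exists_conj h1
  refine ⟨c * h, H.mul_mem hc.1 hh, mem_normalizer_of_map_conj_eq ?_, ?_⟩
  · conv_rhs => rw [← hcP, Subgroup.map_map P]
    exact congrArg (fun f => P.map f) (MonoidHom.ext fun r => by simp [mul_assoc])
  · rw [show c * h * x * (c * h)⁻¹ = c * (h * x * h⁻¹) * c⁻¹ by group, he,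
      mem_centralizer_singleton_iff.1 hc.2, mul_inv_cancel_right]

namespace Conf

variable {t : G} {T : Sylow 2 G} {E E₀ : Subgroup G} (h : Conf t T E E₀)
include h

theorem le_C : E ≤ centralizer ({t} : Set G) := h.prod.2.1

theorem t_mem_C : t ∈ centralizer ({t} : Set G) := mem_centralizer_singleton_iff.2 rfl

theorem T_le_C : (T : Subgroup G) ≤ centralizer ({t} : Set G) := fun x hx =>
  mem_centralizer_singleton_iff.2 (h.abelian T x hx t h.mem)

theorem commute_E {x : G} (hx : x ∈ E) : x * t = t * x := mem_centralizer_singleton_iff.1 (h.le_C hx)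

theorem t_not_mem_E : t ∉ E := fun ht =>
  involution_ne_one h.ord (mem_bot.1 (h.prod.2.2.2.1 ▸ ⟨mem_zpowers t, ht⟩))

theorem C_le {H : Subgroup G} (ht : t ∈ H) (hE : E ≤ H) : centralizer ({t} : Set G) ≤ H :=
  h.prod.2.2.2.2 ▸ sup_le (zpowers_le.2 ht) hE

theorem C_le_normalizer_E : centralizer ({t} : Set G) ≤ normalizer (E : Set G) :=
  h.C_le (mem_normalizer_iff.2 fun x => by
    have key : ∀ y ∈ E, t * y * t⁻¹ = y := fun y hy => by rw [← h.commute_E hy, mul_inv_cancel_right]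
    refine ⟨fun hx => by rw [key x hx]; exact hx, fun hx => ?_⟩
    have h1 := key _ hx
    rwa [show x = t * x * t⁻¹ from mul_left_cancel (mul_right_cancel h1.symm)] ) le_normalizer

theorem C_le_normalizer_E₀ : centralizer ({t} : Set G) ≤ normalizer (E₀ : Set G) :=
  h.C_le (mem_normalizer_iff.2 fun x => by
    have key : ∀ y ∈ E₀, t * y * t⁻¹ = y := fun y hy => by
      rw [← h.commute_E (h.le hy), mul_inv_cancel_right]
    refine ⟨fun hx => by rw [key x hx]; exact hx, fun hx => ?_⟩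
    have h1 := key _ hx
    rwa [show x = t * x * t⁻¹ from mul_left_cancel (mul_right_cancel h1.symm)] ) h.nrm

theorem exists_form {x : G} (hx : x ∈ centralizer ({t} : Set G)) : ∃ e ∈ E, x = e ∨ x = t * e := by
  have hn : zpowers t ≤ normalizer (E : Set G) := (zpowers_le.2 h.t_mem_C).trans h.C_le_normalizer_E
  rw [← h.prod.2.2.2.2, CfsgLib.Core.mem_sup_iff_mul hn] at hx
  obtain ⟨a, ha, e, he, rfl⟩ := hx
  refine ⟨e, he, ?_⟩
  obtain ⟨k, rfl⟩ := mem_zpowers_iff.1 ha
  rw [← zpow_mod_orderOf, h.ord]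
  rcases Int.emod_two_eq_zero_or_one k with e' | e' <;> simp [e']

/-- Odd elements of `C(t)` lie in `E`. -/
theorem mem_E_of_odd {x : G} (hx : x ∈ centralizer ({t} : Set G)) (ho : Odd (orderOf x)) : x ∈ E := by
  obtain ⟨e, he, rfl | rfl⟩ := h.exists_form hx
  · exact he
  exfalso
  obtain ⟨m, hm⟩ := ho
  have hc : Commute t e := (h.commute_E he).symm
  have h1 := pow_orderOf_eq_one (t * e)
  rw [hc.mul_pow, hm, pow_succ t, pow_mul, show t ^ 2 = 1 by rw [pow_two, involution_sq h.ord],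
    one_pow, one_mul] at h1
  exact h.t_not_mem_E (eq_inv_of_mul_eq_one_left h1 ▸ E.inv_mem (E.pow_mem he _))

/-- The Sylow subgroup of `E₀`. -/
def V (_h : Conf t T E E₀) : Subgroup G := (T : Subgroup G) ⊓ E₀

theorem isSyl_V : IsSyl 2 h.V E₀ := by
  haveI : Fact (Nat.Prime 2) := ⟨Nat.prime_two⟩
  exact (isSyl_of_le T h.T_le_C).inf_of_le_normalizer (h.le.trans h.le_C) h.C_le_normalizer_E₀

theorem card_V : Nat.card h.V = 4 := by
  rw [h.isSyl_V.2, show vp 2 (Nat.card E₀) = 2 from h.data.two_pow]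
  norm_num

theorem V_comm : ∀ a ∈ h.V, ∀ b ∈ h.V, a * b = b * a := fun a ha b hb => h.abelian T a ha.1 b hb.1

theorem V_sq {x : G} (hx : x ∈ h.V) : x * x = 1 := by
  haveI : Fact (Nat.Prime 2) := ⟨Nat.prime_two⟩
  obtain ⟨a, b, ha, hb, hne, hc⟩ := h.data.four
  rw [← Subgroup.orderOf_coe] at ha hb
  have hc' : (a : G) * b = b * a := congrArg Subtype.val hc
  have hne' : (a : G) ≠ b := fun e => hne (Subtype.ext e)
  set W : Subgroup G := zpowers (a : G) ⊔ zpowers (b : G) with hW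
  have hAB : zpowers (a : G) ≤ normalizer (zpowers (b : G) : Set G) := by
    refine zpowers_le.2 (mem_normalizer_iff.2 fun y => ?_)
    have key : ∀ y ∈ zpowers (b : G), (a : G) * y * (a : G)⁻¹ = y := by
      rintro _ ⟨k, rfl⟩
      show (a : G) * (b : G) ^ k * (a : G)⁻¹ = _
      rw [(Commute.zpow_right (hc' : Commute (a : G) b) k).eq, mul_inv_cancel_right]
    refine ⟨fun hy => by rw [key y hy]; exact hy, fun hy => ?_⟩
    have h1 := key _ hy
    rwa [show y = (a : G) * y * (a : G)⁻¹ from mul_left_cancel (mul_right_cancel h1.symm)]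
  have hWp : IsPGroup 2 W := (IsPGroup.of_card (n := 1) (by rw [Nat.card_zpowers, ha, pow_one])).to_sup_of_normal_right'
    (IsPGroup.of_card (n := 1) (by rw [Nat.card_zpowers, hb, pow_one])) hAB
  have hWE : W ≤ E₀ := sup_le (zpowers_le.2 a.2) (zpowers_le.2 b.2)
  obtain ⟨P, hP, hWP⟩ := exists_isSyl_ge hWp hWE
  obtain ⟨g, -, hg⟩ := h.isSyl_V.exists_conj hP
  have hcard : Nat.card P = 4 := by rw [← hg, card_map_conj, h.card_V]
  have hin : ∀ {y : G}, orderOf y = 2 → ∀ k : ℕ, y ^ (2 * k) = 1 := fun hy k => by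
    rw [pow_mul, pow_two, involution_sq hy, one_pow]
  have hx' : g * x * g⁻¹ ∈ P := hg ▸ conj_mem_map_conj hx
  have key : g * x * g⁻¹ * (g * x * g⁻¹) = 1 := by
    classical
    have ha1 := involution_ne_one ha
    have hb1 := involution_ne_one hb
    have hab1 : (a : G) * b ≠ 1 := fun e => hne' (by
      rw [← involution_inv ha]; exact (eq_inv_of_mul_eq_one_right e).symm)
    have hset : ({1, (a : G), (b : G), (a : G) * b} : Set G) = (P : Set G) := by
      refine Set.eq_of_subset_of_ncard_le ?_ (le_of_eq ?_) (Set.toFinite _)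
      · rintro _ (rfl | rfl | rfl | rfl)
        · exact one_mem _
        · exact hWP (mem_sup_left (mem_zpowers _))
        · exact hWP (mem_sup_right (mem_zpowers _))
        · exact hWP (mul_mem (mem_sup_left (mem_zpowers _)) (mem_sup_right (mem_zpowers _)))
      · rw [← Nat.card_coe_set_eq (P : Set G), show Nat.card (P : Set G) = 4 from hcard,
          Set.ncard_insert_of_notMem (by simp [ha1.symm, hb1.symm, hab1.symm]),
          Set.ncard_insert_of_notMem (by simp [hne', hb1]), Set.ncard_pair (by simp [ha1])]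
    have hx'' : g * x * g⁻¹ ∈ ({1, (a : G), (b : G), (a : G) * b} : Set G) := hset ▸ hx'
    rcases hx'' with e | e | e | e <;> rw [e]
    · rw [one_mul]
    · exact involution_sq ha
    · exact involution_sq hb
    · rw [mul_assoc, ← mul_assoc (b : G), ← hc', mul_assoc (a : G) (b : G), involution_sq hb, mul_one,
        involution_sq ha]
  rw [conj_mul, conj_eq_one_iff] at key
  exact key

theorem T_inf_E : (T : Subgroup G) ⊓ E = h.V := by
  haveI : Fact (Nat.Prime 2) := ⟨Nat.prime_two⟩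
  refine le_antisymm ?_ (inf_le_inf_left _ h.le)
  rintro u ⟨huT, huE⟩
  set φ : MulAut E₀ := E₀.normalizerMonoidHom ⟨u, h.nrm huE⟩ with hφ
  have hval : ∀ x : E₀, ((φ x : E₀) : G) = u * x * u⁻¹ := fun _ => rfl
  have hpow : ∃ j : ℕ, orderOf φ = 2 ^ j := by
    obtain ⟨k, hk⟩ := T.isPGroup' ⟨u, huT⟩
    have h1 : (⟨u, h.nrm huE⟩ : normalizer (E₀ : Set G)) ^ 2 ^ k = 1 :=
      Subtype.ext (congrArg Subtype.val hk :)
    obtain ⟨j, -, hj⟩ := (Nat.dvd_prime_pow Nat.prime_two).1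
      (orderOf_dvd_of_pow_eq_one (show φ ^ 2 ^ k = 1 by rw [hφ, ← map_pow, h1, map_one]))
    exact ⟨j, hj⟩
  obtain ⟨S, hS⟩ := (h.isSyl_V.isPGroup.of_equiv (subgroupOfEquivOfLe h.isSyl_V.le).symm).exists_le_sylow
  have hSV : (S : Subgroup E₀).map E₀.subtype = h.V := by
    refine (h.isSyl_V.eq_of_le (S.isPGroup'.map _) ?_ (map_subtype_le _)).symm
    intro x hx
    exact ⟨⟨x, h.isSyl_V.le hx⟩, hS (mem_subgroupOf.2 hx), rfl⟩
  have hSab : IsMulCommutative (S : Subgroup E₀) := ⟨⟨fun a b => Subtype.ext (Subtype.ext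
    (h.V_comm _ (hSV ▸ mem_map_of_mem _ a.2) _ (hSV ▸ mem_map_of_mem _ b.2)))⟩⟩
  obtain ⟨e, he⟩ := Cfsg.Agent.S4593.result (center_eq_bot h.data) (pPrimeCore_eq_bot h.data) S hSab φ hpow
    (fun x hx => Subtype.ext (by
      rw [hval, h.abelian T u huT x (hSV ▸ mem_map_of_mem E₀.subtype hx : (x : G) ∈ h.V).1,
        mul_inv_cancel_right]))
  have h1 : (e : G)⁻¹ * u ∈ E ⊓ centralizer (E₀ : Set G) := by
    refine ⟨E.mul_mem (E.inv_mem (h.le e.2)) huE, mem_centralizer_iff.2 fun x hx => ?_⟩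
    have h2 : u * x * u⁻¹ = (e : G) * x * (e : G)⁻¹ := (hval ⟨x, hx⟩).symm.trans (congrArg Subtype.val (he ⟨x, hx⟩))
    calc x * ((e : G)⁻¹ * u) = (e : G)⁻¹ * ((e : G) * x * (e : G)⁻¹) * u := by group
      _ = (e : G)⁻¹ * (u * x * u⁻¹) * u := by rw [h2]
      _ = (e : G)⁻¹ * u * x := by group
  rw [h.cent, mem_bot, inv_mul_eq_one] at h1
  exact ⟨huT, h1 ▸ e.2⟩

theorem t_not_mem_V : t ∉ h.V := fun ht => h.t_not_mem_E (h.le ht.2)

theorem T_form {x : G} (hx : x ∈ T) : x ∈ h.V ∨ ∃ v ∈ h.V, x = t * v := by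
  obtain ⟨e, he, rfl | rfl⟩ := h.exists_form (h.T_le_C hx)
  · exact Or.inl (h.T_inf_E ▸ ⟨hx, he⟩)
  · refine Or.inr ⟨e, h.T_inf_E ▸ ⟨?_, he⟩, rfl⟩
    have := (T : Subgroup G).mul_mem ((T : Subgroup G).inv_mem h.mem) hx
    rwa [inv_mul_cancel_left] at this

theorem card_T_le : Nat.card T ≤ 8 := by
  classical
  have hsub : ((T : Subgroup G) : Set G) ⊆ (h.V : Set G) ∪ (t * ·) '' (h.V : Set G) := fun x hx => by
    rcases h.T_form hx with h1 | ⟨v, hv, rfl⟩
    · exact Or.inl h1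
    · exact Or.inr ⟨v, hv, rfl⟩
  have h1 := (Set.ncard_le_ncard hsub).trans (Set.ncard_union_le _ _)
  have h2 : (h.V : Set G).ncard = 4 := by rw [← Nat.card_coe_set_eq]; exact h.card_V
  rw [Set.ncard_image_of_injective _ (mul_right_injective t), h2, ← Nat.card_coe_set_eq] at h1
  exact h1

theorem sq_T {x : G} (hx : x ∈ T) : x * x = 1 := by
  rcases h.T_form hx with h1 | ⟨v, hv, rfl⟩
  · exact h.V_sq h1
  · rw [mul_assoc, ← mul_assoc v t, h.commute_E (h.le hv.2), mul_assoc t v, h.V_sq hv, mul_one, involution_sq h.ord]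

theorem ord_T {x : G} (hx : x ∈ T) (hx1 : x ≠ 1) : orderOf x = 2 := orderOf_eq_two_of hx1 (h.sq_T hx)

/-- An element of `N_{E₀}(V)` normalises the Sylow subgroup. -/
theorem normalizer_T {n : G} (hn : n ∈ E₀) (hnV : n ∈ normalizer (h.V : Set G)) :
    n ∈ normalizer ((T : Subgroup G) : Set G) := by
  refine mem_normalizer_of_map_conj_eq (eq_of_le_of_card_ge ?_ (card_map_conj n (T : Subgroup G)).ge)
  rintro _ ⟨x, hx, rfl⟩
  show n * x * n⁻¹ ∈ (T : Subgroup G)
  rcases h.T_form hx with h1 | ⟨v, hv, rfl⟩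
  · exact ((mem_normalizer_iff.1 hnV x).1 h1).1
  · rw [← mul_assoc, h.commute_E (h.le hn), mul_assoc, mul_assoc, ← mul_assoc n]
    exact (T : Subgroup G).mul_mem h.mem ((mem_normalizer_iff.1 hnV v).1 hv).1

theorem conj_V {v w : G} (hv : v ∈ h.V) (hw : w ∈ h.V) (hv1 : v ≠ 1) (hw1 : w ≠ 1) :
    ∃ n ∈ E₀, n ∈ normalizer (h.V : Set G) ∧ n * v * n⁻¹ = w := by
  have hord : ∀ {z : G}, (hz : z ∈ h.V) → z ≠ 1 → orderOf (⟨z, hz.2⟩ : E₀) = 2 := fun hz hz1 => by
    rw [Subgroup.orderOf_mk]; exact h.ord_T hz.1 hz1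
  obtain ⟨g, hg⟩ := isConj_iff.1 (h.data.conj _ _ (hord hv hv1) (hord hw hw1))
  exact exists_normalizer_conj h.isSyl_V h.V_comm hv hw g.2 (congrArg Subtype.val hg)

/-- Fusion of `t` inside a subgroup containing `C(t)`. -/
theorem fusion {M : Subgroup G} (hM : centralizer ({t} : Set G) ≤ M) :
    (∀ x ∈ T, x ≠ 1 → ∃ m ∈ M, m ∈ normalizer ((T : Subgroup G) : Set G) ∧ m * t * m⁻¹ = x) ∨
      ∀ m ∈ M, Commute t (m * t * m⁻¹) → m * t * m⁻¹ = t := by
  classical
  haveI : Fact (Nat.Prime 2) := ⟨Nat.prime_two⟩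
  set D := M ⊓ normalizer ((T : Subgroup G) : Set G) with hD
  set O : Set G := {s | ∃ d ∈ D, d * t * d⁻¹ = s} with hO
  have hTD : (T : Subgroup G) ≤ D ⊓ centralizer ({t} : Set G) :=
    le_inf (le_inf (h.T_le_C.trans hM) le_normalizer) h.T_le_C
  have hodd : Odd O.ncard := by
    have h1 : O.ncard * Nat.card (D ⊓ centralizer ({t} : Set G) : Subgroup G) = Nat.card D := by
      rw [← card_conj_class D t, ← Nat.card_coe_set_eq]; rfl
    rw [← Nat.not_even_iff_odd]
    intro he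
    have hO0 : O.ncard ≠ 0 := fun e => by rw [e, zero_mul] at h1; exact Nat.card_pos.ne' h1.symm
    have h2 := congrArg (fun n : ℕ => n.factorization 2) h1
    simp only [Nat.factorization_mul hO0 Nat.card_pos.ne', Finsupp.add_apply] at h2
    have h3 := Nat.prime_two.factorization_pos_of_dvd hO0 he.two_dvd
    have h4 := (isSyl_of_le T hTD).vp_eq
    have h5 := (isSyl_of_le T (hTD.trans inf_le_left)).vp_eq
    simp only [vp] at h4 h5
    omega
  have hOT : ∀ s ∈ O, s ∈ T ∧ s ≠ 1 := by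
    rintro _ ⟨d, hd, rfl⟩
    exact ⟨(mem_normalizer_iff.1 hd.2 t).1 h.mem,
      fun e => involution_ne_one h.ord (conj_eq_one_iff.1 e)⟩
  have hinv : ∀ n ∈ E₀, n ∈ normalizer (h.V : Set G) → ∀ s ∈ O, n * s * n⁻¹ ∈ O := by
    rintro n hn hnV _ ⟨d, hd, rfl⟩
    exact ⟨n * d, D.mul_mem ⟨hM (h.le_C (h.le hn)), h.normalizer_T hn hnV⟩ hd, by group⟩
  have htO : t ∈ O := ⟨1, D.one_mem, by simp⟩
  have hVO : ∀ v ∈ h.V, v ≠ 1 → v ∈ O → ∀ w ∈ h.V, w ≠ 1 → w ∈ O := by
    intro v hv hv1 hvO w hw hw1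
    obtain ⟨n, hn, hnV, rfl⟩ := h.conj_V hv hw hv1 hw1
    exact hinv n hn hnV v hvO
  have htVO : ∀ v ∈ h.V, v ≠ 1 → t * v ∈ O → ∀ w ∈ h.V, w ≠ 1 → t * w ∈ O := by
    intro v hv hv1 hvO w hw hw1
    obtain ⟨n, hn, hnV, rfl⟩ := h.conj_V hv hw hv1 hw1
    have := hinv n hn hnV _ hvO
    rwa [← mul_assoc, h.commute_E (h.le hn), mul_assoc, mul_assoc, ← mul_assoc n] at this
  set V' : Set G := (h.V : Set G) \ {1} with hV'
  have hV'card : V'.ncard = 3 := by
    have h2 : (h.V : Set G).ncard = 4 := by rw [← Nat.card_coe_set_eq]; exact h.card_V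
    rw [hV', Set.ncard_sdiff_singleton_of_mem (show (1 : G) ∈ (h.V : Set G) from h.V.one_mem), h2]
  by_cases hall : (∀ v ∈ V', v ∈ O) ∧ ∀ v ∈ V', t * v ∈ O
  · refine Or.inl fun x hx hx1 => ?_
    have hxO : x ∈ O := by
      rcases h.T_form hx with h1 | ⟨v, hv, rfl⟩
      · exact hall.1 x ⟨h1, hx1⟩
      · by_cases hv1 : v = 1
        · rw [hv1, mul_one]; exact htO
        · exact hall.2 v ⟨hv, hv1⟩
    obtain ⟨d, hd, rfl⟩ := hxO
    exact ⟨d, hd.1, hd.2, rfl⟩
  refine Or.inr fun m hm hc => ?_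
  -- the orbit is trivial
  have hsingle : ∀ s ∈ O, s = t := by
    have htV : t ∉ V' := fun e => h.t_not_mem_V e.1
    have htV2 : t ∉ (t * ·) '' V' := by
      rintro ⟨v, hv, e⟩
      exact hv.2 (mul_left_cancel (e.trans (mul_one t).symm))
    intro s hs
    by_contra hst
    obtain ⟨hsT, hs1⟩ := hOT s hs
    rcases h.T_form hsT with h1 | ⟨v, hv, rfl⟩
    · have hsub : ∀ v ∈ V', v ∈ O := fun v hv => hVO s h1 hs1 hs v hv.1 hv.2
      have hno : ∀ v ∈ V', t * v ∉ O := fun v hv hvO =>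
        hall ⟨hsub, fun w hw => htVO v hv.1 hv.2 hvO w hw.1 hw.2⟩
      have heq : O = insert t V' := by
        refine Set.Subset.antisymm (fun x hx => ?_) (Set.insert_subset htO hsub)
        obtain ⟨hxT, hx1⟩ := hOT x hx
        rcases h.T_form hxT with h2 | ⟨w, hw, rfl⟩
        · exact Or.inr ⟨h2, hx1⟩
        · by_cases hw1 : w = 1
          · exact Or.inl (by rw [hw1, mul_one])
          · exact absurd hx (hno w ⟨hw, hw1⟩)
      rw [heq, Set.ncard_insert_of_notMem htV, hV'card] at hodd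
      exact absurd hodd (by decide)
    · have hv1 : v ≠ 1 := fun e => hst (by rw [e, mul_one])
      have hsub : ∀ w ∈ V', t * w ∈ O := fun w hw => htVO v hv hv1 hs w hw.1 hw.2
      have hno : ∀ w ∈ V', w ∉ O := fun w hw hwO =>
        hall ⟨fun u hu => hVO w hw.1 hw.2 hwO u hu.1 hu.2, hsub⟩
      have heq : O = insert t ((t * ·) '' V') := by
        refine Set.Subset.antisymm (fun x hx => ?_) (Set.insert_subset htO ?_)
        · obtain ⟨hxT, hx1⟩ := hOT x hx
          rcases h.T_form hxT with h2 | ⟨w, hw, rfl⟩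
          · exact absurd hx (hno x ⟨h2, hx1⟩)
          · by_cases hw1 : w = 1
            · exact Or.inl (by rw [hw1, mul_one])
            · exact Or.inr ⟨w, ⟨hw, hw1⟩, rfl⟩
        · rintro _ ⟨w, hw, rfl⟩
          exact hsub w hw
      rw [heq, Set.ncard_insert_of_notMem htV2, Set.ncard_image_of_injective _ (mul_right_injective t),
        hV'card] at hodd
      exact absurd hodd (by decide)
  -- move the conjugate into `T` inside `C(t)`
  set s := m * t * m⁻¹ with hs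
  have hsC : s ∈ centralizer ({t} : Set G) := mem_centralizer_singleton_iff.2 hc.symm.eq
  have hzp : IsPGroup 2 (zpowers s) :=
    IsPGroup.of_card (n := 1) (by rw [Nat.card_zpowers, hs, orderOf_conj, h.ord, pow_one])
  obtain ⟨P, hP, hsP⟩ := exists_isSyl_ge hzp (zpowers_le.2 hsC)
  obtain ⟨c, hcC, hcP⟩ := hP.exists_conj (isSyl_of_le T h.T_le_C)
  have hs' : c * s * c⁻¹ ∈ (T : Subgroup G) := hcP ▸ conj_mem_map_conj (hsP (mem_zpowers s))
  obtain ⟨n, hn, hnT, hne⟩ := exists_normalizer_conj (isSyl_of_le T (h.T_le_C.trans hM)) (h.abelian T)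
    h.mem hs' (M.mul_mem (hM hcC) hm) (by rw [hs]; group)
  have h1 : c * s * c⁻¹ = t := hsingle _ ⟨n, ⟨hn, hnT⟩, hne⟩
  have h2 : c * t * c⁻¹ = t := by rw [mem_centralizer_singleton_iff.1 hcC, mul_inv_cancel_right]
  exact mul_left_cancel (mul_right_cancel (h1.trans h2.symm))

end Conf

end CfsgLib.AbelianPSL
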